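import Cfsg.Agent.Breadth.LieBound
import Cfsg.Agent.HigmanFPF.LieOfGroup

/-!
Vaughan-Lee's bound for the derived subgroup of a finite `p`-group of breadth at most `b`.
-/

set_option autoImplicit false

namespace Cfsg.Agent.Breadth

open Cfsg.Agent.HigmanFPF
open scoped commutatorElement

variable {G : Type*} [Group G] [Finite G]

/-- The part of the Lie ring in degrees at least `n`. -/
def tail (n : ℕ) : AddSubgroup (GrLie G) :=
  AddSubgroup.closure {z | ∃ m x, n ≤ m ∧ x ∈ lcs G m ∧ z = io m x}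

/-- Degree `n`, as a homomorphism. -/
noncomputable def layer (n : ℕ) : Additive (lcs G n) →+ GrLie G :=
  AddMonoidHom.mk' (fun x => io n (Additive.toMul x : lcs G n).1) fun x y =>
    io_mul (Additive.toMul x).2 (Additive.toMul y).2

theorem tail_anti {m n : ℕ} (h : m ≤ n) : (tail n : AddSubgroup (GrLie G)) ≤ tail m :=
  AddSubgroup.closure_mono fun _ ⟨j, x, hj, hx, hz⟩ => ⟨j, x, h.trans hj, hx, hz⟩

theorem io_mem_tail {m n : ℕ} (h : n ≤ m) {x : G} (hx : x ∈ lcs G m) : io m x ∈ tail n :=
  AddSubgroup.subset_closure ⟨m, x, h, hx, rfl⟩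

theorem tail_split (n : ℕ) :
    (tail n : AddSubgroup (GrLie G)) ≤ (layer n).range ⊔ tail (n + 1) := by
  refine (AddSubgroup.closure_le _).2 ?_
  rintro _ ⟨m, x, hm, hx, rfl⟩
  rcases hm.eq_or_lt with rfl | hlt
  · exact AddSubgroup.mem_sup_left ⟨Additive.ofMul (⟨x, hx⟩ : lcs G n), rfl⟩
  · exact AddSubgroup.mem_sup_right (io_mem_tail hlt hx)

theorem tail_zero : (tail 0 : AddSubgroup (GrLie G)) = ⊤ := by
  refine eq_top_iff.2 fun z hz => ?_
  clear hz
  induction z using gr_induction with
  | h0 => exact zero_mem _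
  | hio m x hx => exact io_mem_tail (Nat.zero_le m) hx
  | hadd x y hx hy => exact add_mem hx hy

theorem tail_bot {N : ℕ} (hN : lcs G N = ⊥) {n : ℕ} (h : N ≤ n) :
    (tail n : AddSubgroup (GrLie G)) = ⊥ := by
  refine (AddSubgroup.closure_eq_bot_iff).2 ?_
  rintro _ ⟨m, x, hm, hx, rfl⟩
  have h1 : x ∈ lcs G N := lcs_antitone (h.trans hm) hx
  rw [hN, Subgroup.mem_bot] at h1
  rw [h1, Set.mem_singleton_iff, io_one]

theorem finite_tail {N : ℕ} (hN : lcs G N = ⊥) : ∀ j n, N ≤ n + j →
    ((tail n : AddSubgroup (GrLie G)) : Set (GrLie G)).Finite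
  | 0, n, h => by rw [tail_bot hN (by omega)]; simp
  | j + 1, n, h => by
    refine Set.Finite.subset ((Set.finite_range (layer (G := G) n)).image2 (· + ·)
      (finite_tail hN j (n + 1) (by omega))) fun z hz => ?_
    obtain ⟨a, ha, c, hc, rfl⟩ := AddSubgroup.mem_sup.1 (tail_split n hz)
    exact Set.mem_image2_of_mem ha hc

theorem finite_grLie {N : ℕ} (hN : lcs G N = ⊥) : Finite (GrLie G) := by
  have := finite_tail hN N 0 (by omega)
  rw [tail_zero, AddSubgroup.coe_top] at this
  exact Set.finite_univ_iff.1 this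

theorem card_sup_le [Finite (GrLie G)] (A B : AddSubgroup (GrLie G)) :
    Nat.card ↥(A ⊔ B) ≤ Nat.card A * Nat.card B := by
  rw [← Nat.card_prod]
  refine Nat.card_le_card_of_surjective (fun x : A × B => (⟨x.1.1 + x.2.1,
    add_mem (AddSubgroup.mem_sup_left x.1.2) (AddSubgroup.mem_sup_right x.2.2)⟩ : ↥(A ⊔ B))) ?_
  rintro ⟨z, hz⟩
  obtain ⟨a, ha, c, hc, rfl⟩ := AddSubgroup.mem_sup.1 hz
  exact ⟨(⟨a, ha⟩, ⟨c, hc⟩), rfl⟩

theorem mem_lcs_zero (g : G) : g ∈ lcs G 0 := Subgroup.mem_top g

/-- Bracketing a fixed element with degree `n`, as a homomorphism. -/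
noncomputable def bra (g : G) (n : ℕ) : ↥(lcs G n) →* Multiplicative (GrLie G) :=
  MonoidHom.mk' (fun x => Multiplicative.ofAdd (io (0 + n + 1) ⁅g, (x : G)⁆)) fun x y => by
    rw [← ofAdd_add]
    exact congrArg Multiplicative.ofAdd (io_bracket_mul_right (mem_lcs_zero g) x.2 y.2)

theorem card_ad_tail [Finite (GrLie G)] {N : ℕ} (hN : lcs G N = ⊥) (g : G) : ∀ j n, N ≤ n + j →
    Nat.card ((tail n).map (adH (io 0 g : GrLie G))) ≤
      (Subgroup.centralizer ({g} : Set G)).relIndex (lcs G n)
  | 0, n, h => by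
    rw [tail_bot hN (by omega), AddSubgroup.map_bot, AddSubgroup.card_bot]
    exact Nat.one_le_iff_ne_zero.2 Subgroup.index_ne_zero_of_finite
  | j + 1, n, h => by
    set C := Subgroup.centralizer ({g} : Set G)
    have hsplit : (tail n).map (adH (io 0 g : GrLie G)) ≤
        (layer n).range.map (adH (io 0 g : GrLie G)) ⊔ (tail (n + 1)).map (adH (io 0 g : GrLie G)) := by
      rw [← AddSubgroup.map_sup]; exact AddSubgroup.map_mono (tail_split n)
    refine ((Nat.le_of_dvd Nat.card_pos (AddSubgroup.card_dvd_of_le hsplit)).trans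
      (card_sup_le _ _)).trans ?_
    refine (Nat.mul_le_mul le_rfl (card_ad_tail hN g j (n + 1) (by omega))).trans ?_
    have h1 : Nat.card ((layer (G := G) n).range.map (adH (io 0 g : GrLie G))) =
        (bra g n).ker.index := by
      rw [Subgroup.index_ker]
      refine Nat.card_congr (Multiplicative.toAdd.symm.subtypeEquiv fun z => ?_)
      simp only [AddSubgroup.mem_map, AddMonoidHom.mem_range, exists_exists_eq_and,
        MonoidHom.mem_range]
      constructor
      · rintro ⟨x, rfl⟩
        refine ⟨Additive.toMul x, ?_⟩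
        show Multiplicative.ofAdd _ = Multiplicative.ofAdd _
        rw [adH_apply]
        exact congrArg _ (lie_io (mem_lcs_zero g) (Additive.toMul x).2).symm
      · rintro ⟨x, hx⟩
        refine ⟨Additive.ofMul x, ?_⟩
        rw [adH_apply]
        refine (lie_io (mem_lcs_zero g) x.2).trans ?_
        exact congrArg Multiplicative.toAdd hx
    rw [h1]
    set T := (lcs G (n + 1)).subgroupOf (lcs G n)
    set C' := C.subgroupOf (lcs G n)
    have hC : C' ≤ (bra g n).ker := by
      intro x hx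
      rw [Subgroup.mem_subgroupOf, Subgroup.mem_centralizer_singleton_iff] at hx
      rw [MonoidHom.mem_ker]
      show Multiplicative.ofAdd _ = 1
      rw [show ⁅g, (x : G)⁆ = 1 from commutatorElement_eq_one_iff_mul_comm.2 hx.symm, io_one, ofAdd_zero]
    have hT : T ≤ (bra g n).ker := by
      intro x hx
      rw [MonoidHom.mem_ker]
      show Multiplicative.ofAdd _ = 1
      rw [io_bracket_zero_right (mem_lcs_zero g) (Subgroup.mem_subgroupOf.1 hx), ofAdd_zero]
    have h2 : C.relIndex (lcs G (n + 1)) ≤ C'.relIndex (bra g n).ker := by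
      rw [← Subgroup.relIndex_subgroupOf (H := C) (lcs_antitone (Nat.le_succ n))]
      exact Subgroup.relIndex_le_of_le_right hT Subgroup.index_ne_zero_of_finite
    calc (bra g n).ker.index * C.relIndex (lcs G (n + 1))
        ≤ (bra g n).ker.index * C'.relIndex (bra g n).ker := Nat.mul_le_mul_left _ h2
      _ = C'.index := by rw [mul_comm, Subgroup.relIndex_mul_index hC]
      _ = C.relIndex (lcs G n) := rfl

theorem card_lcs_le [Finite (GrLie G)] {N : ℕ} (hN : lcs G N = ⊥) : ∀ j n, N ≤ n + j →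
    Nat.card (lcs G n) ≤ Nat.card (tail n : AddSubgroup (GrLie G))
  | 0, n, h => by
    rw [eq_bot_iff.2 ((lcs_antitone (show N ≤ n by omega)).trans hN.le), Subgroup.card_bot]
    exact Nat.card_pos
  | j + 1, n, h => by
    have hc : Nat.card (lcs G n) = Nat.card (Fac G n) * Nat.card (lcs G (n + 1)) := by
      rw [Subgroup.card_eq_card_quotient_mul_card_subgroup (nxt G n),
        Nat.card_congr (Subgroup.subgroupOfEquivOfLe (lcs_antitone (Nat.le_succ n))).toEquiv]
    rw [hc]
    refine (Nat.mul_le_mul_left _ (card_lcs_le hN j (n + 1) (by omega))).trans ?_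
    rw [← Nat.card_prod]
    have hmem : ∀ a : Fac G n,
        DirectSum.of (fun n => Additive (Fac G n)) n (Additive.ofMul a) ∈ (tail n : AddSubgroup (GrLie G)) := by
      intro a
      obtain ⟨x, rfl⟩ := QuotientGroup.mk_surjective a
      rw [← io_of_mem x.2]
      exact io_mem_tail le_rfl x.2
    refine Nat.card_le_card_of_injective (fun q : Fac G n × (tail (n + 1) : AddSubgroup (GrLie G)) =>
      (⟨DirectSum.of (fun n => Additive (Fac G n)) n (Additive.ofMul q.1) + q.2.1,
        add_mem (hmem q.1) (tail_anti (Nat.le_succ n) q.2.2)⟩ : (tail n : AddSubgroup (GrLie G)))) ?_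
    have hz : ∀ z ∈ (tail (n + 1) : AddSubgroup (GrLie G)), z n = 0 := by
      intro z hz
      induction hz using AddSubgroup.closure_induction with
      | mem z hz =>
        obtain ⟨m, x, hm, hx, rfl⟩ := hz
        rw [io_of_mem hx, DirectSum.of_eq_of_ne]
        omega
      | zero => rfl
      | add a c _ _ ha hc => rw [DirectSum.add_apply, ha, hc, add_zero]
      | neg a _ ha =>
        have h0 : (-a + a) n = (0 : GrLie G) n := by rw [neg_add_cancel]
        rwa [DirectSum.add_apply, ha, add_zero, DirectSum.zero_apply] at h0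
    rintro ⟨a, z⟩ ⟨a', z'⟩ he
    have he' := congrArg Subtype.val he
    simp only at he'
    have hn : a = a' := by
      have := congrArg (fun w : GrLie G => w n) he'
      simp only [DirectSum.add_apply, DirectSum.of_eq_same, hz z.1 z.2, hz z'.1 z'.2,
        add_zero] at this
      exact Additive.ofMul.injective this
    subst hn
    exact Prod.ext rfl (Subtype.ext (add_left_cancel he'))

/-- Degree zero. -/
noncomputable def degZero : AddSubgroup (GrLie G) := (layer 0).range

theorem io_succ_mem (m : ℕ) {x : G} (hx : x ∈ lcs G (m + 1)) :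
    io (m + 1) x ∈ total (degZero : AddSubgroup (GrLie G)) := by
  have h : ⁅lcs G m, (⊤ : Subgroup G)⁆ = lcs G (m + 1) :=
    ((⊤ : Subgroup G).lowerCentralSeries_succ m).symm
  suffices x ∈ lcs G (m + 1) ∧ io (m + 1) x ∈ total (degZero : AddSubgroup (GrLie G)) from this.2
  rw [← h, Subgroup.commutator_def] at hx
  induction hx using Subgroup.closure_induction with
  | mem x hx =>
    obtain ⟨a, ha, y, -, rfl⟩ := hx
    refine ⟨comm_top ha y, ?_⟩
    have h1 : io (m + 1) ⁅a, y⁆ = -⁅io 0 y, io m a⁆ := by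
      rw [lie_skew, lie_io ha (mem_lcs_zero y)]
    rw [h1]
    have hy : io 0 y ∈ (degZero : AddSubgroup (GrLie G)) :=
      ⟨Additive.ofMul (⟨y, mem_lcs_zero y⟩ : lcs G 0), rfl⟩
    exact neg_mem (le_iSup₂ (f := fun v _ => (adH v).range) (io 0 y) hy (mem_range_adH _ _))
  | one => exact ⟨one_mem _, by rw [io_one]; exact zero_mem _⟩
  | mul a c _ _ ha hc =>
    exact ⟨mul_mem ha.1 hc.1, by rw [io_mul ha.1 hc.1]; exact add_mem ha.2 hc.2⟩
  | inv a _ ha => exact ⟨inv_mem ha.1, by rw [io_inv ha.1]; exact neg_mem ha.2⟩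

theorem tail_one_le : (tail 1 : AddSubgroup (GrLie G)) ≤ total degZero := by
  refine (AddSubgroup.closure_le _).2 ?_
  rintro _ ⟨m, x, hm, hx, rfl⟩
  obtain ⟨m, rfl⟩ := Nat.exists_eq_add_of_le' hm
  exact io_succ_mem m hx

theorem vaughan_lee {p : ℕ} [Fact p.Prime] (hG : IsPGroup p G) (b : ℕ)
    (hb : ∀ x : G, (Subgroup.centralizer ({x} : Set G)).index ≤ p ^ b) :
    Nat.card (commutator G) ≤ p ^ (b * (b + 1) / 2) := by
  haveI := hG.isNilpotent
  obtain ⟨N, hN⟩ := nilpotent_iff_lowerCentralSeries.1 this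
  haveI : Finite (GrLie G) := finite_grLie hN
  obtain ⟨e, he⟩ := IsPGroup.iff_card.1 hG
  have hpL : IsPGroup p (Multiplicative (GrLie G)) := by
    intro z
    refine ⟨e, ?_⟩
    apply Multiplicative.toAdd.injective
    rw [toAdd_pow, toAdd_one, ← he]
    exact card_nsmul_eq_zero _
  obtain ⟨k, hk⟩ := IsPGroup.iff_card.1 hpL
  have hkL : Nat.card (GrLie G) = p ^ k := (Nat.card_congr Multiplicative.ofAdd).trans hk
  have hF : ∀ j, ∀ v ∈ (degZero : AddSubgroup (GrLie G)), ∀ z ∈ (tail j : AddSubgroup (GrLie G)),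
      ⁅v, z⁆ ∈ (tail (j + 1) : AddSubgroup (GrLie G)) := by
    rintro j _ ⟨a, rfl⟩ z hz
    induction hz using AddSubgroup.closure_induction with
    | mem z hz =>
      obtain ⟨m, x, hm, hx, rfl⟩ := hz
      show ⁅io 0 _, io m x⁆ ∈ _
      rw [lie_io (Additive.toMul a).2 hx]
      exact io_mem_tail (by omega) (comm_mem (Additive.toMul a).2 hx)
    | zero => rw [lie_zero]; exact zero_mem _
    | add x y _ _ hx hy => rw [lie_add]; exact add_mem hx hy
    | neg x _ hx => rw [lie_neg]; exact neg_mem hx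
  have hgen : ∀ z : GrLie G, z ∈ degZero ⊔ total (degZero : AddSubgroup (GrLie G)) := by
    intro z
    have h0 : z ∈ (tail 0 : AddSubgroup (GrLie G)) := by rw [tail_zero]; trivial
    exact sup_le_sup le_rfl tail_one_le (tail_split 0 h0)
  have hrank : ∀ v ∈ (degZero : AddSubgroup (GrLie G)), Nat.card (adH v).range ≤ p ^ b := by
    rintro _ ⟨a, rfl⟩
    have key : ∀ g : G, Nat.card (adH (io 0 g : GrLie G)).range ≤ p ^ b := by
      intro g
      have := card_ad_tail hN g N 0 (by omega)
      rw [tail_zero, ← AddMonoidHom.range_eq_map, show lcs G 0 = ⊤ from rfl,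
        Subgroup.relIndex_top_right] at this
      exact this.trans (hb g)
    exact key _
  have hW := lie_breadth_bound hkL tail N tail_zero (tail_bot hN le_rfl) hF hgen b hrank
  rw [← Subgroup.top_lowerCentralSeries_one]
  exact ((card_lcs_le hN N 1 (by omega)).trans
    (Nat.le_of_dvd Nat.card_pos (AddSubgroup.card_dvd_of_le tail_one_le))).trans hW

end Cfsg.Agent.Breadth
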