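import Mathlib

/-!
The breadth bound for finite nilpotent Lie rings of prime power order, generated by an additive
subgroup `V`: if every adjoint map of an element of `V` has image of order at most `p ^ b`,
then the span of those images has order at most `p ^ (b * (b + 1) / 2)`.

The proof peels off pivots `a`; a phase consists of the pivots chosen while the forms
`(u, v) ↦ ⁅u, A v⁆`, `A` a word in the pivots present when the phase began, are not all zero.
-/

set_option autoImplicit false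

namespace Cfsg.Agent.Breadth

variable {L : Type*} [LieRing L]

/-- The adjoint map of an element. -/
def adH (x : L) : L →+ L := AddMonoidHom.mk' (fun y => ⁅x, y⁆) (lie_add x)

theorem adH_apply (x y : L) : adH x y = ⁅x, y⁆ := rfl

theorem mem_range_adH (x y : L) : ⁅x, y⁆ ∈ (adH x).range := ⟨y, rfl⟩

/-- The span of the images of the adjoint maps of a list. -/
def imgs : List L → AddSubgroup L
  | [] => ⊥
  | a :: l => (adH a).range ⊔ imgs l

theorem range_le_imgs : ∀ {l : List L} {a : L}, a ∈ l → (adH a).range ≤ imgs l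
  | b :: l, a, h => by
    rcases List.mem_cons.1 h with rfl | h
    · exact le_sup_left
    · exact (range_le_imgs h).trans le_sup_right

/-- The map given by a word. -/
def wd : List L → L →+ L
  | [] => AddMonoidHom.id L
  | a :: A => (adH a).comp (wd A)

theorem wd_nil (v : L) : wd [] v = v := rfl

theorem wd_cons (a : L) (A : List L) (v : L) : wd (a :: A) v = ⁅a, wd A v⁆ := rfl

theorem wd_append : ∀ (A B : List L) (v : L), wd (A ++ B) v = wd A (wd B v)
  | [], B, v => rfl
  | a :: A, B, v => by rw [List.cons_append, wd_cons, wd_cons, wd_append A B v]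

theorem lie_word_mem {S : AddSubgroup L} :
    ∀ (A : List L), (∀ a ∈ A, (adH a).range ≤ S) → ∀ Q v : L, ⁅Q, wd A v⁆ ∈ S ⊔ (adH v).range
  | [], _, Q, v => by
    rw [wd_nil, ← lie_skew Q v]
    exact neg_mem (AddSubgroup.mem_sup_right (mem_range_adH v Q))
  | a :: A, h, Q, v => by
    rw [wd_cons, leibniz_lie Q a]
    exact add_mem (lie_word_mem A (fun c hc => h c (List.mem_cons_of_mem a hc)) _ v)
      (AddSubgroup.mem_sup_left (h a List.mem_cons_self (mem_range_adH a _)))

theorem flip_iff {S : AddSubgroup L} :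
    ∀ (A : List L), (∀ a ∈ A, (adH a).range ≤ S) → ∀ u v : L,
      (⁅u, wd A v⁆ ∈ S ↔ ⁅v, wd A.reverse u⁆ ∈ S)
  | [], _, u, v => by
    rw [List.reverse_nil, wd_nil, wd_nil, ← lie_skew u v, neg_mem_iff]
  | a :: A, h, u, v => by
    have h1 : ⁅a, ⁅u, wd A v⁆⁆ ∈ S := h a List.mem_cons_self (mem_range_adH a _)
    rw [wd_cons, leibniz_lie u a, AddSubgroup.add_mem_cancel_right S h1, ← lie_skew u a, neg_lie,
      neg_mem_iff, flip_iff A (fun c hc => h c (List.mem_cons_of_mem a hc)) ⁅a, u⁆ v,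
      List.reverse_cons, wd_append, wd_cons, wd_nil]

/-- All forms over words in `l0` vanish on `(u, v)` modulo `S`. -/
def Orth (l0 : List L) (S : AddSubgroup L) (u v : L) : Prop :=
  ∀ A : List L, (∀ a ∈ A, a ∈ l0) → ⁅u, wd A v⁆ ∈ S

section Orth

variable {l0 : List L} {S : AddSubgroup L}

theorem orth_symm (hl0 : ∀ a ∈ l0, (adH a).range ≤ S) {u v : L} (h : Orth l0 S u v) :
    Orth l0 S v u := by
  intro A hA
  rw [flip_iff A (fun a ha => hl0 a (hA a ha))]
  exact h A.reverse fun a ha => hA a (List.mem_reverse.1 ha)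

theorem orth_add_left {u u' v : L} (h : Orth l0 S u v) (h' : Orth l0 S u' v) :
    Orth l0 S (u + u') v := fun A hA => by
  rw [add_lie]; exact add_mem (h A hA) (h' A hA)

theorem orth_sub_left {u u' v : L} (h : Orth l0 S u v) (h' : Orth l0 S u' v) :
    Orth l0 S (u - u') v := fun A hA => by
  rw [sub_lie]; exact sub_mem (h A hA) (h' A hA)

theorem orth_sub_right {u v v' : L} (h : Orth l0 S u v) (h' : Orth l0 S u v') :
    Orth l0 S u (v - v') := fun A hA => by
  rw [map_sub, lie_sub]; exact sub_mem (h A hA) (h' A hA)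

theorem orth_zero_left (v : L) : Orth l0 S 0 v := fun A _ => by
  rw [zero_lie]; exact zero_mem S

theorem orth_zero_right (u : L) : Orth l0 S u 0 := fun A _ => by
  rw [map_zero, lie_zero]; exact zero_mem S

/-- The elements orthogonal to a fixed `v` on the left. -/
def orthTo (l0 : List L) (S : AddSubgroup L) (v : L) : AddSubgroup L where
  carrier := {u | Orth l0 S u v}
  zero_mem' := orth_zero_left v
  add_mem' := orth_add_left
  neg_mem' {u} h := by simpa using orth_sub_left (orth_zero_left v) h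

theorem mem_orthTo {u v : L} : u ∈ orthTo l0 S v ↔ Orth l0 S u v := Iff.rfl

end Orth

/-- The image of `adH g` modulo `S` has order at most `p ^ D`. -/
def Rk (p : ℕ) (S : AddSubgroup L) (g : L) (D : ℕ) : Prop :=
  Nat.card ((adH g).range.map (QuotientAddGroup.mk' S)) ≤ p ^ D

variable {p : ℕ} [hp : Fact p.Prime]

theorem rk_zero (S : AddSubgroup L) (D : ℕ) : Rk p S (0 : L) D := by
  have h : (adH (0 : L)).range.map (QuotientAddGroup.mk' S) = ⊥ := by
    rw [eq_bot_iff]
    rintro _ ⟨_, ⟨z, rfl⟩, rfl⟩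
    simp [adH_apply]
  unfold Rk
  rw [h, AddSubgroup.card_bot]
  exact Nat.one_le_pow _ _ hp.out.pos

theorem card_map_mk [Finite L] (S A : AddSubgroup L) :
    Nat.card ↥(A ⊔ S) = Nat.card S * Nat.card (A.map (QuotientAddGroup.mk' S)) := by
  classical
  let f : ↥(A ⊔ S) →+ L ⧸ S := (QuotientAddGroup.mk' S).comp (A ⊔ S).subtype
  have hr : f.range = A.map (QuotientAddGroup.mk' S) := by
    rw [AddMonoidHom.range_comp, AddSubgroup.range_subtype, AddSubgroup.map_sup,
      QuotientAddGroup.map_mk'_self, sup_bot_eq]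
  have hk : f.ker = S.addSubgroupOf (A ⊔ S) := by
    ext z
    simp [f, AddSubgroup.mem_addSubgroupOf]
  have h1 := AddSubgroup.card_mul_index f.ker
  rw [AddSubgroup.index_ker, hr, hk,
    Nat.card_congr (AddSubgroup.addSubgroupOfEquivOfLe (le_sup_right : S ≤ A ⊔ S)).toEquiv] at h1
  exact h1.symm

/-- Drop lemma. -/
theorem rk_drop [Finite L] {k : ℕ} (hL : Nat.card L = p ^ k) {S : AddSubgroup L} {x n f y : L} {D : ℕ}
    (hf : Rk p S f D) (hfn : f = n ∨ f = x + n) (hy : y ∈ (adH f).range)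
    (hy' : y ∈ (adH x).range ⊔ S) (hyS : y ∉ S) :
    ∃ E, D = E + 1 ∧ Rk p ((adH x).range ⊔ S) n E := by
  classical
  set S' := (adH x).range ⊔ S with hS'
  have hSS' : S ≤ S' := le_sup_right
  let π : L ⧸ S →+ L ⧸ S' := QuotientAddGroup.map S S' (AddMonoidHom.id L) (by simpa using hSS')
  set I := (adH f).range.map (QuotientAddGroup.mk' S) with hI
  let φ : I →+ L ⧸ S' := π.comp I.subtype
  have hmap : φ.range = (adH n).range.map (QuotientAddGroup.mk' S') := by
    have h1 : φ.range = (adH f).range.map (QuotientAddGroup.mk' S') := by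
      rw [AddMonoidHom.range_comp, AddSubgroup.range_subtype, hI, AddSubgroup.map_map]
      rfl
    rw [h1]
    rcases hfn with rfl | rfl
    · rfl
    · ext q
      simp only [AddSubgroup.mem_map, AddMonoidHom.mem_range, exists_exists_eq_and]
      refine exists_congr fun z => ?_
      have hxz : (QuotientAddGroup.mk' S') ⁅x, z⁆ = 0 :=
        (QuotientAddGroup.eq_zero_iff _).2 (AddSubgroup.mem_sup_left (mem_range_adH x z))
      simp only [adH_apply, add_lie, map_add, hxz, zero_add]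
  have hker : φ.ker ≠ ⊥ := by
    intro hb
    apply hyS
    have hyI : QuotientAddGroup.mk' S y ∈ I := AddSubgroup.mem_map_of_mem _ hy
    have : (⟨_, hyI⟩ : I) ∈ φ.ker := by
      rw [AddMonoidHom.mem_ker]
      show π (QuotientAddGroup.mk' S y) = 0
      exact (QuotientAddGroup.eq_zero_iff _).2 hy'
    rw [hb, AddSubgroup.mem_bot] at this
    exact (QuotientAddGroup.eq_zero_iff _).1 (congrArg Subtype.val this)
  have hdvd : Nat.card φ.ker ∣ p ^ k := hL ▸ (AddSubgroup.card_addSubgroup_dvd_card _).trans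
    ((AddSubgroup.card_addSubgroup_dvd_card I).trans (AddSubgroup.card_quotient_dvd_card S))
  obtain ⟨j, -, hj⟩ := (Nat.dvd_prime_pow hp.out).1 hdvd
  have hj0 : j ≠ 0 := by
    intro h
    rw [h, pow_zero] at hj
    exact hker (AddSubgroup.card_eq_one.1 hj)
  have hp2 := hp.out.two_le
  have hker2 : p ≤ Nat.card φ.ker := hj ▸ Nat.le_self_pow hj0 p
  have hcard := AddSubgroup.card_mul_index φ.ker
  rw [AddSubgroup.index_ker, hmap] at hcard
  have hpos : 0 < Nat.card ((adH n).range.map (QuotientAddGroup.mk' S')) := Nat.card_pos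
  unfold Rk at hf ⊢
  rw [← hI, ← hcard] at hf
  have hple := (Nat.mul_le_mul_right _ hker2).trans hf
  cases D with
  | zero => rw [pow_zero] at hple; nlinarith
  | succ E =>
    refine ⟨E, rfl, Nat.le_of_mul_le_mul_left ?_ hp.out.pos⟩
    calc p * _ ≤ p ^ (E + 1) := hple
      _ = p * p ^ E := pow_succ' p E

theorem triangle (D : ℕ) : (D + 1) * (D + 1 + 1) / 2 = (D + 1) + D * (D + 1) / 2 := by
  obtain ⟨m, hm⟩ : 2 ∣ D * (D + 1) := (Nat.even_mul_succ_self D).two_dvd
  have : (D + 1) * (D + 1 + 1) = 2 * ((D + 1) + m) := by linarith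
  rw [this, hm, Nat.mul_div_cancel_left _ two_pos, Nat.mul_div_cancel_left _ two_pos]

variable (V : AddSubgroup L)

/-- The span of all the images. -/
def total : AddSubgroup L := ⨆ v ∈ V, (adH v).range

/-- A state of the process. -/
structure State (p : ℕ) (V : AddSubgroup L) (l : List L) (M : AddSubgroup L) (l0 : List L)
    (U : AddSubgroup L) (D : ℕ) : Prop where
  lV : ∀ a ∈ l, a ∈ V
  MV : M ≤ V
  gen : ∀ v ∈ V, ∃ m ∈ M, v - m ∈ AddSubgroup.closure {a | a ∈ l}
  sub : ∀ a ∈ l0, a ∈ l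
  UM : U ≤ M
  prop : U = ⊥ ∨ U ≠ M
  big : ∀ g ∈ M, g ∉ U → Rk p (imgs l) g D
  quad : ∀ g ∈ U, Orth l0 (imgs l) g g
  small : ∀ g ∈ U, ∀ m ∈ M, m ∉ U → Orth l0 (imgs l) g m → Rk p (imgs l) g D

variable {V}

theorem finish [Finite L] {l : List L} {M : AddSubgroup L} (F : ℕ → AddSubgroup L) (N : ℕ)
    (hF0 : F 0 = ⊤) (hFN : F N = ⊥) (hF : ∀ j, ∀ v ∈ V, ∀ z ∈ F j, ⁅v, z⁆ ∈ F (j + 1))
    (hgen : ∀ z : L, z ∈ V ⊔ total V)
    (hlV : ∀ a ∈ l, a ∈ V) (hM : ∀ v ∈ V, ∃ m ∈ M, v - m ∈ AddSubgroup.closure {a | a ∈ l})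
    (hz : ∀ u ∈ M, ∀ v ∈ M, Orth l (imgs l) u v) : total V ≤ imgs l := by
  classical
  let T : AddSubgroup L :=
    AddSubgroup.closure {z | ∃ A v, (∀ a ∈ A, a ∈ l) ∧ v ∈ V ∧ z = wd A v}
  have hclos : ∀ (W : AddSubgroup L), ∀ c ∈ AddSubgroup.closure {a | a ∈ l}, ∀ z : L,
      (∀ a ∈ l, ⁅a, z⁆ ∈ W) → ⁅c, z⁆ ∈ W := by
    intro W c hc z hW
    induction hc using AddSubgroup.closure_induction with
    | mem a ha => exact hW a ha
    | zero => rw [zero_lie]; exact zero_mem W
    | add a b _ _ ha hb => rw [add_lie]; exact add_mem ha hb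
    | neg a _ ha => rw [neg_lie]; exact neg_mem ha
  have hVT : V ≤ T := fun v hv => AddSubgroup.subset_closure ⟨[], v, by simp, hv, rfl⟩
  have haT : ∀ a ∈ l, ∀ t ∈ T, ⁅a, t⁆ ∈ T := by
    intro a ha t ht
    induction ht using AddSubgroup.closure_induction with
    | mem z hz' =>
      obtain ⟨A, v, hA, hv, rfl⟩ := hz'
      exact AddSubgroup.subset_closure ⟨a :: A, v, List.forall_mem_cons.2 ⟨ha, hA⟩, hv, rfl⟩
    | zero => rw [lie_zero]; exact zero_mem T
    | add a b _ _ ha hb => rw [lie_add]; exact add_mem ha hb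
    | neg a _ ha => rw [lie_neg]; exact neg_mem ha
  have hmT : ∀ m ∈ M, ∀ t ∈ T, ⁅m, t⁆ ∈ imgs l := by
    intro m hm t ht
    induction ht using AddSubgroup.closure_induction with
    | mem z hz' =>
      obtain ⟨A, v, hA, hv, rfl⟩ := hz'
      obtain ⟨m', hm', hc⟩ := hM v hv
      rw [← sub_add_cancel v m', map_add, lie_add]
      refine add_mem ?_ (hz m hm m' hm' A hA)
      generalize v - m' = c at hc ⊢
      induction hc using AddSubgroup.closure_induction with
      | mem c hc =>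
        have := lie_word_mem (S := imgs l) A (fun a ha => range_le_imgs (hA a ha)) m c
        rwa [sup_eq_left.2 (range_le_imgs hc)] at this
      | zero => rw [map_zero, lie_zero]; exact zero_mem _
      | add a b _ _ ha hb => rw [map_add, lie_add]; exact add_mem ha hb
      | neg a _ ha => rw [map_neg, lie_neg]; exact neg_mem ha
    | zero => rw [lie_zero]; exact zero_mem _
    | add a b _ _ ha hb => rw [lie_add]; exact add_mem ha hb
    | neg a _ ha => rw [lie_neg]; exact neg_mem ha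
  have key : ∀ j, ∀ z : L, z ∈ T ⊔ F j := by
    intro j
    induction j with
    | zero => intro z; rw [hF0, sup_top_eq]; trivial
    | succ j ih =>
      have hS : ∀ {l' : List L}, (∀ a ∈ l', a ∈ l) → imgs l' ≤ T ⊔ F (j + 1) := by
        intro l' hl'
        induction l' with
        | nil => exact bot_le
        | cons a l' ih' =>
          refine sup_le ?_ (ih' fun b hb => hl' b (List.mem_cons_of_mem a hb))
          rintro _ ⟨z, rfl⟩
          obtain ⟨t, ht, f, hf, rfl⟩ := AddSubgroup.mem_sup.1 (ih z)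
          rw [adH_apply, lie_add]
          have hal := hl' a List.mem_cons_self
          exact add_mem (AddSubgroup.mem_sup_left (haT a hal t ht))
            (AddSubgroup.mem_sup_right (hF j a (hlV a hal) f hf))
      have hW : total V ≤ T ⊔ F (j + 1) := by
        refine iSup₂_le fun v hv => ?_
        rintro _ ⟨z, rfl⟩
        obtain ⟨t, ht, f, hf, rfl⟩ := AddSubgroup.mem_sup.1 (ih z)
        obtain ⟨m, hm, hc⟩ := hM v hv
        rw [adH_apply, lie_add]
        refine add_mem ?_ (AddSubgroup.mem_sup_right (hF j v hv f hf))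
        rw [← sub_add_cancel v m, add_lie]
        exact add_mem (AddSubgroup.mem_sup_left (hclos T _ hc t fun a ha => haT a ha t ht))
          (hS (fun a ha => ha) (hmT m hm t ht))
      intro z
      exact sup_le (hVT.trans le_sup_left) hW (hgen z)
  refine iSup₂_le fun v hv => ?_
  rintro _ ⟨z, rfl⟩
  obtain ⟨m, hm, hc⟩ := hM v hv
  have hzT : z ∈ T := by
    have := key N z
    rwa [hFN, sup_bot_eq] at this
  rw [adH_apply, ← sub_add_cancel v m, add_lie]
  exact add_mem (hclos _ _ hc z fun a ha => range_le_imgs ha (mem_range_adH a z)) (hmT m hm z hzT)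

theorem all_rk {l l0 : List L} {M U : AddSubgroup L} {D : ℕ} (h : State p V l M l0 U D)
    (hz : ∀ u ∈ M, ∀ v ∈ M, Orth l0 (imgs l) u v) : ∀ g ∈ M, Rk p (imgs l) g D := by
  intro g hg
  by_cases hgU : g ∈ U
  · rcases h.prop with hU | hU
    · rw [hU, AddSubgroup.mem_bot] at hgU
      rw [hgU]; exact rk_zero _ _
    · obtain ⟨m, hm, hmU⟩ : ∃ m ∈ M, m ∉ U := by
        by_contra hno
        push Not at hno
        exact hU (le_antisymm h.UM hno)
      exact h.small g hgU m hm hmU (hz g hg m hm)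
  · exact h.big g hg hgU

theorem step [Finite L] {k : ℕ} (hL : Nat.card L = p ^ k) {l l0 : List L} {M U : AddSubgroup L}
    {D : ℕ} (h : State p V l M l0 U D)
    (hnz : ¬ ∀ u ∈ M, ∀ v ∈ M, Orth l0 (imgs l) u v) :
    ∃ (x : L) (M' U' : AddSubgroup L) (E : ℕ), D = E + 1 ∧ Rk p (imgs l) x D ∧
      State p V (x :: l) M' l0 U' E := by
  classical
  set S := imgs l with hS
  have hl0 : ∀ a ∈ l0, (adH a).range ≤ S := fun a ha => range_le_imgs (h.sub a ha)
  have hUne : U ≠ M := by
    rcases h.prop with hU | hU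
    · intro hUM
      apply hnz
      intro u hu v _
      rw [← hUM, hU, AddSubgroup.mem_bot] at hu
      rw [hu]; exact orth_zero_left v
    · exact hU
  obtain ⟨H, hUH, hH⟩ := Finite.exists_le_maximal (p := fun K : AddSubgroup L => U ≤ K ∧ K < M)
    (a := U) ⟨le_rfl, lt_of_le_of_ne h.UM hUne⟩
  have hHM : H ≤ M := hH.1.2.le
  obtain ⟨x₁, hx₁, hx₁H⟩ := SetLike.exists_of_lt hH.1.2
  have notU : ∀ {y}, y ∈ M → y ∉ H → y ∉ U := fun _ hy hyU => hy (hUH hyU)
  have hsum : ∀ {y n}, y ∈ M → y ∉ H → n ∈ H → y + n ∈ M ∧ y + n ∉ H := fun {y n} hy hyH hn =>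
    ⟨add_mem hy (hHM hn), fun hh => hyH (by simpa using sub_mem hh hn)⟩
  have hspan : ∀ {y}, y ∈ M → y ∉ H → ∀ m ∈ M, ∃ c : ℤ, ∃ n ∈ H, m = c • y + n := by
    intro y hy hyH m hm
    have hle : H ⊔ AddSubgroup.zmultiples y ≤ M := sup_le hHM (AddSubgroup.zmultiples_le.2 hy)
    have heq : H ⊔ AddSubgroup.zmultiples y = M := by
      by_contra hne
      have := hH.2 ⟨hUH.trans le_sup_left, lt_of_le_of_ne hle hne⟩ le_sup_left
      exact hyH (this (AddSubgroup.mem_sup_right (AddSubgroup.mem_zmultiples y)))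
    rw [← heq] at hm
    obtain ⟨n, hn, z, hz, rfl⟩ := AddSubgroup.mem_sup.1 hm
    obtain ⟨c, rfl⟩ := AddSubgroup.mem_zmultiples_iff.1 hz
    exact ⟨c, n, hn, add_comm _ _⟩
  have gen' : ∀ {y}, y ∈ M → y ∉ H →
      ∀ v ∈ V, ∃ m ∈ H, v - m ∈ AddSubgroup.closure {a | a ∈ y :: l} := by
    intro y hy hyH v hv
    obtain ⟨m, hm, hc⟩ := h.gen v hv
    obtain ⟨c, n, hn, rfl⟩ := hspan hy hyH m hm
    refine ⟨n, hn, ?_⟩
    have e : v - n = (v - (c • y + n)) + c • y := by abel
    rw [e]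
    refine add_mem (AddSubgroup.closure_mono (fun a ha => List.mem_cons_of_mem y ha) hc) ?_
    exact AddSubgroup.zsmul_mem _ (AddSubgroup.subset_closure (show y ∈ {a | a ∈ y :: l} from List.mem_cons_self)) c
  have mk : ∀ {y}, y ∈ M → y ∉ H → ∀ (U' : AddSubgroup L) (E : ℕ), U' ≤ H → (U' = ⊥ ∨ U' ≠ H) →
      (∀ g ∈ H, g ∉ U' → Rk p (imgs (y :: l)) g E) →
      (∀ g ∈ U', Orth l0 (imgs (y :: l)) g g) →
      (∀ g ∈ U', ∀ m ∈ H, m ∉ U' → Orth l0 (imgs (y :: l)) g m → Rk p (imgs (y :: l)) g E) →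
      State p V (y :: l) H l0 U' E := fun {y} hy hyH U' E a1 a2 a3 a4 a5 =>
    ⟨List.forall_mem_cons.2 ⟨h.MV hy, h.lV⟩, hHM.trans h.MV, gen' hy hyH,
      fun a ha => List.mem_cons_of_mem y (h.sub a ha), a1, a2, a3, a4, a5⟩
  by_cases hq : ∃ x ∈ M, x ∉ H ∧ ¬ Orth l0 S x x
  · obtain ⟨x, hx, hxH, hxq⟩ := hq
    have key : ∀ n ∈ H, ∃ E, D = E + 1 ∧ Rk p ((adH x).range ⊔ S) n E := by
      intro n hn
      obtain ⟨hxn, hxnH⟩ := hsum hx hxH hn
      have hrk := h.big _ hxn (notU hxn hxnH)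
      by_cases h0 : Orth l0 S (x + n) x
      · obtain ⟨A, hA, hAq⟩ : ∃ A : List L, (∀ a ∈ A, a ∈ l0) ∧ ⁅x, wd A x⁆ ∉ S := by
          simpa [Orth, not_forall] using hxq
        have hA' : ∀ a ∈ A, (adH a).range ≤ S := fun a ha => hl0 a (hA a ha)
        by_cases hnU : n ∈ U
        · have hb : ⁅x, wd A x⁆ + ⁅x, wd A n⁆ ∈ S := by
            rw [← lie_add, ← map_add]; exact orth_symm hl0 h0 A hA
          have hdec : ⁅x + n, wd A (x + n)⁆ =
              ⁅x + n, wd A x⁆ + ⁅x, wd A n⁆ + ⁅n, wd A n⁆ := by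
            simp only [map_add, lie_add, add_lie]; abel
          refine rk_drop hL hrk (Or.inr rfl) (mem_range_adH (x + n) (wd A (x + n))) ?_ ?_
          · rw [hdec]
            exact add_mem (add_mem (AddSubgroup.mem_sup_right (h0 A hA))
              (AddSubgroup.mem_sup_left (mem_range_adH x _)))
              (AddSubgroup.mem_sup_right (h.quad n hnU A hA))
          · rw [hdec, AddSubgroup.add_mem_cancel_right S (h.quad n hnU A hA),
              AddSubgroup.add_mem_cancel_left S (h0 A hA)]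
            exact fun hh => hAq ((AddSubgroup.add_mem_cancel_right S hh).1 hb)
        · refine rk_drop hL (h.big n (hHM hn) hnU) (Or.inl rfl) (mem_range_adH n (wd A x)) ?_ ?_
          · rw [sup_comm]; exact lie_word_mem A hA' n x
          · intro hh
            have := h0 A hA
            rw [add_lie, AddSubgroup.add_mem_cancel_right S hh] at this
            exact hAq this
      · obtain ⟨A, hA, hA0⟩ : ∃ A : List L, (∀ a ∈ A, a ∈ l0) ∧ ⁅x + n, wd A x⁆ ∉ S := by
          simpa [Orth, not_forall] using h0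
        refine rk_drop hL hrk (Or.inr rfl) (mem_range_adH _ _) ?_ hA0
        rw [sup_comm]; exact lie_word_mem A (fun a ha => hl0 a (hA a ha)) _ x
    obtain ⟨E, rfl, -⟩ := key 0 (zero_mem H)
    refine ⟨x, H, ⊥, E, rfl, h.big x hx (notU hx hxH), mk hx hxH ⊥ E bot_le (Or.inl rfl) ?_ ?_ ?_⟩
    · intro g hg _
      obtain ⟨E', hE, hr⟩ := key g hg
      obtain rfl : E = E' := Nat.succ_injective hE
      exact hr
    · intro g hg; rw [AddSubgroup.mem_bot.1 hg]; exact orth_zero_left 0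
    · intro g hg m _ _ _; rw [AddSubgroup.mem_bot.1 hg]; exact rk_zero _ _
  · push Not at hq
    obtain ⟨x, hx, hxH, n₀, hn₀, hne⟩ : ∃ x, x ∈ M ∧ x ∉ H ∧ ∃ n ∈ H, ¬ Orth l0 S n x := by
      by_contra hno
      push Not at hno
      apply hnz
      have hHH : ∀ a ∈ H, ∀ c ∈ H, Orth l0 S a c := by
        intro a ha c hc
        obtain ⟨hc1, hc2⟩ := hsum hx₁ hx₁H hc
        have := orth_sub_right (hno _ hc1 hc2 a ha) (hno x₁ hx₁ hx₁H a ha)
        simpa using this
      intro u hu v hv A hA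
      obtain ⟨c, a, ha, rfl⟩ := hspan hx₁ hx₁H u hu
      obtain ⟨c', a', ha', rfl⟩ := hspan hx₁ hx₁H v hv
      simp only [map_add, map_zsmul, lie_add, add_lie, lie_zsmul, zsmul_lie]
      refine add_mem (zsmul_mem (add_mem (zsmul_mem (hq x₁ hx₁ hx₁H A hA) _)
        (hno x₁ hx₁ hx₁H a ha A hA)) _) ?_
      exact add_mem (zsmul_mem (orth_symm hl0 (hno x₁ hx₁ hx₁H a' ha') A hA) _) (hHH a ha a' ha' A hA)
    let U' : AddSubgroup L := H ⊓ orthTo l0 S x
    have good : ∀ n ∈ H, n ∉ U' → ∃ E, D = E + 1 ∧ Rk p ((adH x).range ⊔ S) n E := by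
      intro n hn hnU'
      obtain ⟨A, hA, hA0⟩ : ∃ A : List L, (∀ a ∈ A, a ∈ l0) ∧ ⁅n, wd A x⁆ ∉ S := by
        have h' : ¬ Orth l0 S n x := fun hh => hnU' (AddSubgroup.mem_inf.2 ⟨hn, hh⟩)
        simpa [Orth, not_forall] using h'
      obtain ⟨hxn, hxnH⟩ := hsum hx hxH hn
      refine rk_drop hL (h.big _ hxn (notU hxn hxnH)) (Or.inr rfl)
        (mem_range_adH (x + n) (wd A x)) ?_ ?_
      · rw [sup_comm]; exact lie_word_mem A (fun a ha => hl0 a (hA a ha)) _ x
      · rw [add_lie, AddSubgroup.add_mem_cancel_left S (hq x hx hxH A hA)]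
        exact hA0
    have hn₀U : n₀ ∉ U' := fun hh => hne (AddSubgroup.mem_inf.1 hh).2
    obtain ⟨E, rfl, -⟩ := good n₀ hn₀ hn₀U
    refine ⟨x, H, U', E, rfl, h.big x hx (notU hx hxH),
      mk hx hxH U' E inf_le_left (Or.inr fun he => hn₀U (he ▸ hn₀)) ?_ ?_ ?_⟩
    · intro g hg hgU
      obtain ⟨E', hE, hr⟩ := good g hg hgU
      obtain rfl : E = E' := Nat.succ_injective hE
      exact hr
    · intro g hg A hA
      obtain ⟨hgH, hgx⟩ := AddSubgroup.mem_inf.1 hg
      obtain ⟨hxg, hxgH⟩ := hsum hx hxH hgH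
      have := hq _ hxg hxgH A hA
      simp only [map_add, lie_add, add_lie] at this
      rw [AddSubgroup.add_mem_cancel_left S (add_mem (hq x hx hxH A hA) (hgx A hA)),
        AddSubgroup.add_mem_cancel_left S (orth_symm hl0 hgx A hA)] at this
      exact AddSubgroup.mem_sup_right this
    · intro g hg m hm hmU' hgm
      obtain ⟨hgH, hgx⟩ := AddSubgroup.mem_inf.1 hg
      obtain ⟨hxg, hxgH⟩ := hsum hx hxH hgH
      have hgD : Rk p S g (E + 1) := by
        by_cases hgU : g ∈ U
        · exact h.small g hgU x hx (notU hx hxH) hgx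
        · exact h.big g (hHM hgH) hgU
      by_contra hbad
      refine hmU' (AddSubgroup.mem_inf.2 ⟨hm, orth_symm hl0 fun A hA => ?_⟩)
      have h1 : ⁅g, wd A m⁆ ∈ S := by
        by_contra hh
        obtain ⟨E', hE, hr⟩ := rk_drop hL hgD (Or.inl rfl) (mem_range_adH _ _) (hgm A hA) hh
        exact hbad (Nat.succ_injective hE ▸ hr)
      have h2 : ⁅x + g, wd A m⁆ ∈ S := by
        by_contra hh
        obtain ⟨E', hE, hr⟩ := rk_drop hL (h.big _ hxg (notU hxg hxgH)) (Or.inr rfl)
          (mem_range_adH _ _)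
          (by
            rw [add_lie]
            exact add_mem (AddSubgroup.mem_sup_left (mem_range_adH x _)) (hgm A hA)) hh
        exact hbad (Nat.succ_injective hE ▸ hr)
      rwa [add_lie, AddSubgroup.add_mem_cancel_right S h1] at h2

theorem main [Finite L] {k : ℕ} (hL : Nat.card L = p ^ k) (F : ℕ → AddSubgroup L) (N : ℕ)
    (hF0 : F 0 = ⊤) (hFN : F N = ⊥) (hF : ∀ j, ∀ v ∈ V, ∀ z ∈ F j, ⁅v, z⁆ ∈ F (j + 1))
    (hgen : ∀ z : L, z ∈ V ⊔ total V) :
    ∀ (D : ℕ) (l l0 : List L) (M U : AddSubgroup L), State p V l M l0 U D →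
      Nat.card (total V) ≤ Nat.card (imgs l) * p ^ (D * (D + 1) / 2) := by
  intro D
  induction D using Nat.strong_induction_on with
  | _ D ih =>
    intro l l0 M U h
    have go : ∀ {l1 : List L} {U1 : AddSubgroup L}, State p V l M l1 U1 D →
        ¬ (∀ u ∈ M, ∀ v ∈ M, Orth l1 (imgs l) u v) →
        Nat.card (total V) ≤ Nat.card (imgs l) * p ^ (D * (D + 1) / 2) := by
      intro l1 U1 h1 hnz
      obtain ⟨x, M', U', E, rfl, hx, hst⟩ := step hL h1 hnz
      refine (ih E (Nat.lt_succ_self E) _ _ _ _ hst).trans ?_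
      rw [triangle, pow_add, ← mul_assoc, show imgs (x :: l) = (adH x).range ⊔ imgs l from rfl,
        card_map_mk]
      exact Nat.mul_le_mul_right _ (Nat.mul_le_mul_left _ hx)
    by_cases hnz : ∀ u ∈ M, ∀ v ∈ M, Orth l0 (imgs l) u v
    · have hall := all_rk h hnz
      have h1 : State p V l M l ⊥ D :=
        ⟨h.lV, h.MV, h.gen, fun a ha => ha, bot_le, Or.inl rfl, fun g hg _ => hall g hg,
          fun g hg => by rw [AddSubgroup.mem_bot.1 hg]; exact orth_zero_left 0,
          fun g hg _ _ _ _ => by rw [AddSubgroup.mem_bot.1 hg]; exact rk_zero _ _⟩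
      by_cases hnz' : ∀ u ∈ M, ∀ v ∈ M, Orth l (imgs l) u v
      · have hle := finish F N hF0 hFN hF hgen h.lV h.gen hnz'
        exact (Nat.le_of_dvd Nat.card_pos (AddSubgroup.card_dvd_of_le hle)).trans
          (Nat.le_mul_of_pos_right _ (pow_pos hp.out.pos _))
      · exact go h1 hnz'
    · exact go h hnz

/-- The breadth bound for Lie rings. -/
theorem lie_breadth_bound [Finite L] {k : ℕ} (hL : Nat.card L = p ^ k) (F : ℕ → AddSubgroup L)
    (N : ℕ) (hF0 : F 0 = ⊤) (hFN : F N = ⊥)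
    (hF : ∀ j, ∀ v ∈ V, ∀ z ∈ F j, ⁅v, z⁆ ∈ F (j + 1)) (hgen : ∀ z : L, z ∈ V ⊔ total V) (b : ℕ)
    (hb : ∀ v ∈ V, Nat.card (adH v).range ≤ p ^ b) :
    Nat.card (total V) ≤ p ^ (b * (b + 1) / 2) := by
  have hst : State p V ([] : List L) V [] ⊥ b := by
    refine ⟨by simp, le_rfl, fun v hv => ⟨v, hv, by simp⟩, by simp, bot_le, Or.inl rfl, ?_, ?_, ?_⟩
    · intro g hg _
      exact (Nat.le_of_dvd Nat.card_pos (AddSubgroup.card_map_dvd _ _)).trans (hb g hg)
    · intro g hg; rw [AddSubgroup.mem_bot.1 hg]; exact orth_zero_left 0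
    · intro g hg _ _ _ _; rw [AddSubgroup.mem_bot.1 hg]; exact rk_zero _ _
  have := main hL F N hF0 hFN hF hgen b [] [] V ⊥ hst
  simpa [imgs, AddSubgroup.card_bot] using this

end Cfsg.Agent.Breadth
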